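import Cfsg.Agent.OddChar.TypeP.Pair.Primes

/-!
# `S_F` is elementary abelian of order `p ^ q`
-/

set_option autoImplicit false

namespace Cfsg.Agent.OddChar.TypeP.Pair

open Cfsg Subgroup
open Cfsg.Agent.OddLocal

universe u

variable {G : Type u} [Group G] [Finite G] {S T W₁ W₂ U V H₀ C : Subgroup G} {r : ℕ}

/-- For type II the fixed point formula gives `|M_F| = |W₂| ^ |W₁|`. -/
theorem card_H_of_II (hG : IsMinSimpleOddOrder G) (hS : IsCoatom S) (hP : IsTypePWith S W₁ U W₂)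
    (hII : IsOfTypeII S) : Nat.card (fittingHallOf S) = Nat.card W₂ ^ Nat.card W₁ := by
  have hU := centralizer_U_of_II hG hS hP hII
  have h := FrobeniusFormula.formula (frobHyp hP)
  have hbot : fittingHallOf S ⊓ centralizer ((U ⊔ W₁ : Subgroup G) : Set G) = ⊥ := by
    rw [eq_bot_iff, ← hU, FrobeniusFormula.centralizer_sup]
    exact inf_le_inf_left _ inf_le_left
  rwa [FrobeniusFormula.Formula, hbot, hU, card_bot, one_pow, one_mul, mul_one,
    H_inf_centralizer_W₁ hP] at h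

/-- If `|M_F| = p ^ |W₁|` with `p = |W₂|` prime the chief factor is all of `M_F`. -/
theorem chief_bot (hp : (Nat.card W₂).Prime)
    (hH : Nat.card (fittingHallOf S) = Nat.card W₂ ^ Nat.card W₁)
    (d : ChiefData S W₁ U W₂ H₀ C r) : r = Nat.card W₂ ∧ H₀ = ⊥ := by
  have hd : r ∣ Nat.card W₂ := d.card_W₂ ▸ relIndex_dvd_card H₀ W₂
  have hr : r = Nat.card W₂ := ((Nat.dvd_prime hp).mp hd).resolve_left d.prime.ne_one
  refine ⟨hr, card_eq_one.mp ?_⟩
  have h := d.card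
  rw [hH, hr] at h
  exact (Nat.mul_eq_right (pow_ne_zero _ hp.ne_zero)).mp h.symm

theorem fcore (hV : NoTypeVStatement.{u}) (h3 : TypeThreeStatement.{u}) (hC : ChiefStatement.{u}) :
    FcoreStatement.{u} := by
  intro G _ _ hG S T W₁ W₂ U V h
  rcases types hV hG h with hII | hIII
  · obtain ⟨hq, hp⟩ := primes hV hG S T W₁ W₂ U V h
    have hH := card_H_of_II hG h.hS h.hSP hII
    obtain ⟨H₀, C, r, d⟩ := hC hG S W₁ U W₂ h.hS h.hSP (U_ne_bot_of_II hG h.hS h.hSP hII) hq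
    obtain ⟨rfl, rfl⟩ := chief_bot hp hH d
    refine ⟨⟨⟨⟨fun a b => Subtype.ext ?_⟩⟩, fun a ha => mem_bot.mp (d.pow a ha)⟩, hH⟩
    have e := mem_bot.mp (d.abelian a a.2 b b.2)
    rw [mul_inv_eq_one, mul_inv_eq_iff_eq_mul] at e
    exact e
  · obtain ⟨-, -, -, -, hel, hH⟩ := h3 hG S W₁ U W₂ h.hS h.hSP hIII
    exact ⟨hel, hH⟩

end Cfsg.Agent.OddChar.TypeP.Pair
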