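import Cfsg.Agent.OddChar.TypeP.Endgame
import Cfsg.Agent.OddChar.TypeP.Cover
import Cfsg.Agent.OddChar.TypeP.ChiefBasic

/-!
# Unconditional facts about a pair of maximal subgroups of type P
-/

set_option autoImplicit false
set_option linter.unusedSectionVars false

namespace Cfsg.Agent.OddChar.TypeP.Pair

open Cfsg Subgroup
open Cfsg.Agent.OddLocal
open Cfsg.Agent.Transfer.Fusion (map_conj_eq_self_iff card_map_conj)

universe u

variable {G : Type u} [Group G] [Finite G] {M S T W₁ W₂ U V : Subgroup G}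

theorem symm (h : PairData S T W₁ W₂ U V) : PairData T S W₂ W₁ V U :=
  ⟨h.hT, h.hS, h.hTP, h.hSP, by rw [inf_comm, h.inter, sup_comm], h.two.symm, h.typeT, h.typeS⟩

theorem odd_card (hG : IsMinSimpleOddOrder G) (H : Subgroup G) : Odd (Nat.card H) :=
  hG.1.of_dvd_nat (card_subgroup_dvd_card H)

/-- The orders of the two cyclic factors are coprime. -/
theorem coprime_card (hG : IsMinSimpleOddOrder G) (hM : IsCoatom M) (hP : IsTypePWith M W₁ U W₂) :
    (Nat.card W₁).Coprime (Nat.card W₂) := by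
  obtain ⟨hK, hW₂⟩ := hall_of_typeP hG hM hP
  rw [hW₂]
  exact PType.coprime_star hK

theorem card_ne (hG : IsMinSimpleOddOrder G) (hM : IsCoatom M) (hP : IsTypePWith M W₁ U W₂) :
    Nat.card W₁ ≠ Nat.card W₂ := fun e => by
  have h := coprime_card hG hM hP
  rw [← e, Nat.coprime_self] at h
  exact hP.W₁_ne (card_eq_one.mp h)

/-- A standard factorisation through `W₁`. -/
theorem exists_decomp (hG : IsMinSimpleOddOrder G) (hM : IsCoatom M) (hP : IsTypePWith M W₁ U W₂) :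
    ∃ U₀ : Subgroup G, IsSigmaDecomposition M W₁ U₀ :=
  KappaDecomp.exists_decomposition hG hM (hall_of_typeP hG hM hP).1 hP.W₁_cyclic

theorem not_typeII_of_III_or_IV (hG : IsMinSimpleOddOrder G) (hM : IsCoatom M)
    (h : IsOfTypeIII M ∨ IsOfTypeIV M) : ¬ IsOfTypeII M := fun h2 => by
  obtain ⟨K, U₀, hKU⟩ := Fcore.exists_decomp hG hM
  exact (Types.of_typeII hG hM hKU h2).2 (Types.of_typeIII_or_IV hG hM hKU h).2.1

theorem not_typeV_of_II (hG : IsMinSimpleOddOrder G) (hM : IsCoatom M) (h : IsOfTypeII M) :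
    ¬ IsOfTypeV M := fun h5 => by
  obtain ⟨K, U₀, hKU⟩ := Fcore.exists_decomp hG hM
  exact (Types.of_typeII hG hM hKU h).2 (Types.of_typeV hG hM hKU h5).2.1

theorem not_typeV_of_III_or_IV (hG : IsMinSimpleOddOrder G) (hM : IsCoatom M)
    (h : IsOfTypeIII M ∨ IsOfTypeIV M) : ¬ IsOfTypeV M := fun h5 => by
  obtain ⟨K, U₀, hKU⟩ := Fcore.exists_decomp hG hM
  exact (Types.of_typeIII_or_IV hG hM hKU h).2.2 (Types.of_typeV hG hM hKU h5).2.2

/-- For types II, III and IV the order of every `W₁` is a prime. -/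
theorem W₁_prime (hG : IsMinSimpleOddOrder G) (hM : IsCoatom M) (hP : IsTypePWith M W₁ U W₂)
    (h : IsOfTypeII M ∨ IsOfTypeIII M ∨ IsOfTypeIV M) : (Nat.card W₁).Prime := by
  obtain ⟨A, B, C, hQ, hp⟩ : ∃ A B C : Subgroup G, IsTypePWith M A B C ∧ (Nat.card A).Prime := by
    rcases h with ⟨A, B, C, hQ, -, hp, -⟩ | ⟨A, B, C, hQ, -, hp, -⟩ | ⟨A, B, C, hQ, -, hp, -⟩ <;>
      exact ⟨A, B, C, hQ, hp⟩
  obtain ⟨U₀, hKU⟩ := exists_decomp hG hM hP
  obtain ⟨m, -, rfl, -⟩ := TypeTwo.data_conj hG hM hKU hP.W₁_ne hQ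
  rwa [card_map_conj] at hp

/-- For type II the complement `U` is a conjugate of that of a standard factorisation through `W₁`. -/
theorem typeII_data (hG : IsMinSimpleOddOrder G) (hM : IsCoatom M) (hP : IsTypePWith M W₁ U W₂)
    (h : IsOfTypeII M) : ∃ U₀ : Subgroup G, IsSigmaDecomposition M W₁ U₀ ∧ U₀ ≠ ⊥ ∧
      fittingHallOf M = sigmaCore M ∧ ∃ m ∈ M, U = U₀.map (MulAut.conj m).toMonoidHom := by
  obtain ⟨U₀, hKU⟩ := exists_decomp hG hM hP
  obtain ⟨-, hU₀⟩ := Types.of_typeII hG hM hKU h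
  obtain ⟨hσ, hn⟩ := Types.sigmaCore_eq_of_U_ne hG hM hKU hU₀
  exact ⟨U₀, hKU, hU₀, hσ.symm, Types.conj_U hG hM hKU hP.W₁_ne hn hP.U_compl⟩

theorem U_ne_bot_of_II (hG : IsMinSimpleOddOrder G) (hM : IsCoatom M) (hP : IsTypePWith M W₁ U W₂)
    (h : IsOfTypeII M) : U ≠ ⊥ := by
  obtain ⟨U₀, -, hU₀, -, m, -, rfl⟩ := typeII_data hG hM hP h
  intro e
  exact hU₀ (card_eq_one.mp (by rw [← card_map_conj U₀ m, e, card_bot]))

theorem U_abelian_of_II (hG : IsMinSimpleOddOrder G) (hM : IsCoatom M) (hP : IsTypePWith M W₁ U W₂)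
    (h : IsOfTypeII M) : IsMulCommutative U := by
  obtain ⟨U₀, hKU, -, -, m, -, rfl⟩ := typeII_data hG hM hP h
  have hc := (S1363.result hG M hM W₁ U₀ hKU hP.W₁_ne).1
  refine ⟨⟨?_⟩⟩
  rintro ⟨a, a', ha, rfl⟩ ⟨b, b', hb, rfl⟩
  refine Subtype.ext ?_
  have e : a' * b' = b' * a' := congrArg Subtype.val (hc.is_comm.comm ⟨a', ha⟩ ⟨b', hb⟩)
  show (MulAut.conj m).toMonoidHom a' * (MulAut.conj m).toMonoidHom b' = _ * _
  rw [← map_mul, e, map_mul]

theorem normalizer_U_of_II (hG : IsMinSimpleOddOrder G) (hM : IsCoatom M) (hP : IsTypePWith M W₁ U W₂)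
    (h : IsOfTypeII M) : ¬ normalizer (U : Set G) ≤ M := by
  obtain ⟨U₀, hKU, -, -, m, hm, rfl⟩ := typeII_data hG hM hP h
  intro hN
  rw [PrimeAction.normalizer_map] at hN
  refine (S1363.result hG M hM W₁ U₀ hKU hP.W₁_ne).2 ?_
  rwa [← map_conj_eq_self_iff.mpr (le_normalizer hm : m ∈ normalizer (M : Set G)),
    map_le_map_iff_of_injective (MulAut.conj m).injective] at hN

/-- For types III and IV the derived subgroup is `M_σ`. -/
theorem derived_eq_of_III_or_IV (hG : IsMinSimpleOddOrder G) (hM : IsCoatom M)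
    (hP : IsTypePWith M W₁ U W₂) (h : IsOfTypeIII M ∨ IsOfTypeIV M) :
    ⁅M, M⁆ = sigmaCore M ∧ fittingHallOf M ≠ sigmaCore M := by
  obtain ⟨U₀, hKU⟩ := exists_decomp hG hM hP
  obtain ⟨-, hU₀, hne⟩ := Types.of_typeIII_or_IV hG hM hKU h
  exact ⟨by rw [PType.commutator_eq hG hM hKU hP.W₁_ne, hU₀, bot_sup_eq], hne⟩

theorem U_ne_bot_of_III_or_IV (hG : IsMinSimpleOddOrder G) (hM : IsCoatom M)
    (hP : IsTypePWith M W₁ U W₂) (h : IsOfTypeIII M ∨ IsOfTypeIV M) : U ≠ ⊥ := by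
  obtain ⟨hd, hne⟩ := derived_eq_of_III_or_IV hG hM hP h
  rintro rfl
  obtain ⟨hle, -, -, hsplit⟩ := hP.U_compl
  refine hne (le_antisymm (hd ▸ hle) fun x hx => ?_)
  obtain ⟨a, ha, b, hb, rfl⟩ := hsplit x (hd ▸ hx)
  rwa [mem_bot.mp hb, mul_one]

theorem normalizer_U_of_III_or_IV (hG : IsMinSimpleOddOrder G) (hM : IsCoatom M)
    (hP : IsTypePWith M W₁ U W₂) (h : IsOfTypeIII M ∨ IsOfTypeIV M) :
    normalizer (U : Set G) ≤ M := by
  have hV := hP.U_compl
  rw [(derived_eq_of_III_or_IV hG hM hP h).1] at hV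
  exact Types.normalizer_compl_le hG hM (U_ne_bot_of_III_or_IV hG hM hP h) hP.U_nilpotent hV

/-- `U ≠ 1` unless `M` is of type V. -/
theorem U_ne_bot (hG : IsMinSimpleOddOrder G) (hM : IsCoatom M) (hP : IsTypePWith M W₁ U W₂)
    (h : IsOfTypeII M ∨ IsOfTypeIII M ∨ IsOfTypeIV M) : U ≠ ⊥ := by
  rcases h with h | h | h
  exacts [U_ne_bot_of_II hG hM hP h, U_ne_bot_of_III_or_IV hG hM hP (Or.inl h),
    U_ne_bot_of_III_or_IV hG hM hP (Or.inr h)]

/-- For type II no non-identity element of `M_F` centralises `U`. -/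
theorem centralizer_U_of_II (hG : IsMinSimpleOddOrder G) (hM : IsCoatom M)
    (hP : IsTypePWith M W₁ U W₂) (h : IsOfTypeII M) :
    fittingHallOf M ⊓ centralizer (U : Set G) = ⊥ := by
  obtain ⟨U₀, hKU, hU₀, hσ, m, hm, rfl⟩ := typeII_data hG hM hP h
  obtain ⟨U₁, hle, hexp, hfix⟩ := S1360.result hG M hM W₁ U₀ hKU
  obtain ⟨u, hu, hu1⟩ := (bot_or_exists_ne_one U₁).resolve_left fun e => hU₀ <| by
    have hall : ∀ v : U₀, v = 1 := fun v => by
      have h1 : Monoid.exponent U₀ = 1 := by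
        rw [← hexp, e]
        exact Monoid.exp_eq_one_iff.mpr inferInstance
      have h2 := Monoid.pow_exponent_eq_one v
      rwa [h1, pow_one] at h2
    exact eq_bot_iff.mpr fun v hv => mem_bot.mpr (congrArg Subtype.val (hall ⟨v, hv⟩))
  refine eq_bot_iff.mpr fun x hx => mem_bot.mpr ?_
  obtain ⟨hxH, hxC⟩ := mem_inf.mp hx
  by_contra hx1
  have hy : m⁻¹ * x * m ∈ fittingHallOf M :=
    (mem_normalizer_iff''.mp (M_le_normalizer_H M hm) x).mp hxH
  rw [hσ] at hy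
  refine hu1 (hfix u hu ⟨hKU.compl.1 (hle hu), m⁻¹ * x * m, hy,
    fun e => hx1 ?_, ?_⟩)
  · calc x = m * (m⁻¹ * x * m) * m⁻¹ := by group
      _ = 1 := by rw [e, mul_one, mul_inv_cancel]
  · have e : (m * u * m⁻¹) * x = x * (m * u * m⁻¹) :=
      mem_centralizer_iff.mp hxC _ ⟨u, hle hu, rfl⟩
    calc u * (m⁻¹ * x * m) = m⁻¹ * ((m * u * m⁻¹) * x) * m := by group
      _ = m⁻¹ * (x * (m * u * m⁻¹)) * m := by rw [e]
      _ = m⁻¹ * x * m * u := by group

/-- Two partners of type other than II are impossible. -/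
theorem not_both (h : PairData S T W₁ W₂ U V) (hS : ¬ IsOfTypeII S) (hT : ¬ IsOfTypeII T) : False :=
  h.two.elim hS hT

/-- `A₀(M)` is a TI-set with normaliser `M` for type P. -/
theorem typeA0_ti (hG : IsMinSimpleOddOrder G) (hM : IsCoatom M) (hP : IsTypePWith M W₁ U W₂) :
    IsTISubset (typeA0 M) ∧ normalizer (typeA0 M) = M := by
  obtain ⟨U₀, hKU⟩ := exists_decomp hG hM hP
  obtain ⟨hsub, hst, y, hy, hy1⟩ := DadeSets.three_sets hG hM hKU (typeA0 M) (Or.inr (Or.inr rfl))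
  have hn : normalizer (typeA0 M) = M :=
    TypeTwo.normalizer_eq hG hM hst (fun a ha => (hsub a ha).1.1.1) hy hy1
  refine ⟨fun g hg x hx hgx => ?_, hn⟩
  by_contra hx1
  obtain ⟨n, hn', e⟩ :=
    (DadeSets.fusion_centralizer hG hM hKU (hsub x hx).1 (hsub x hx).2).1 g (hsub _ hgx).1
  have hκ : (kappa M).Nonempty := Types.kappa_nonempty hKU hP.W₁_ne
  have hc : n⁻¹ * g ∈ centralizer ({x} : Set G) := by
    rw [mem_centralizer_singleton_iff]
    calc n⁻¹ * g * x = n⁻¹ * (g * x * g⁻¹) * g := by group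
      _ = n⁻¹ * (n * x * n⁻¹) * g := by rw [e]
      _ = x * (n⁻¹ * g) := by group
  have hle : centralizer ({x} : Set G) ≤ M := by
    by_contra hnle
    have hxσ := (DadeSets.fusion_centralizer hG hM hKU (hsub x hx).1 (hsub x hx).2).2 hnle
    exact Set.not_nonempty_empty
      (TypeOne.Gap.kappa_empty_of_not_le hG hM hxσ (hsub x hx).2 hnle ▸ hκ)
  refine hg (hn.symm ▸ ?_)
  have := mul_mem hn' (hle hc)
  rwa [mul_inv_cancel_left] at this

end Cfsg.Agent.OddChar.TypeP.Pair
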