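import Cfsg.Agent.OddChar.TypeP.Pair.Assembly
import Cfsg.Agent.OddChar.TypeP.Chief
import Cfsg.Agent.OddChar.TypeP.Dichotomy
import Cfsg.Agent.OddChar.TypeP.NoTypeV
import Cfsg.Agent.OddChar.TypeP.TypeThree.Main
import Cfsg.Agent.OddChar.TypeP.Centralizer.Main
import Cfsg.Agent.OddChar.TypeP.Exceptional.NonExceptional
import Cfsg.Agent.OddChar.TypeP.Exceptional.Normalizes

/-!
# The unconditional inputs of the final contradiction
-/

universe u

namespace Cfsg.Agent.OddChar.TypeP.Pair

theorem exceptional_uncond : ExceptionalStatement.{u} :=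
  Exceptional.exceptional_of_statements TypeThree.typeThree TypeThree.typeThreeColumn
    Centralizer.centralizer

theorem normalizes_uncond : NormalizesStatement.{u} :=
  Exceptional.normalizes_of_statements TypeThree.typeThree TypeThree.typeThreeColumn
    Centralizer.centralizer

end Cfsg.Agent.OddChar.TypeP.Pair
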