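import Cfsg.Agent.OddChar.TypeP.Pair.Fcore
import Cfsg.Agent.OddChar.Final.Wrapper
import Cfsg.Agent.S1546

/-!
# S1543, S1544, S1547-S1549 and the odd order theorem from the interface statements
-/

set_option autoImplicit false

namespace Cfsg.Agent.OddChar.TypeP.Pair

open Cfsg Subgroup
open Cfsg.Agent.OddLocal

universe u

variable {G : Type u} [Group G] [Finite G] {S T W₁ W₂ U V : Subgroup G}

/-- If `|W₁| < |W₂|` then `S` is of type II. -/
theorem typeII_of_lt (hV : NoTypeVStatement.{u}) (h3 : TypeThreeStatement.{u})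
    (hG : IsMinSimpleOddOrder G) (h : PairData S T W₁ W₂ U V)
    (hlt : Nat.card W₁ < Nat.card W₂) : IsOfTypeII S :=
  (types hV hG h).resolve_right fun h' =>
    absurd (h3 hG S W₁ U W₂ h.hS h.hSP h').2.1 hlt.le.not_gt

/-- S1543. -/
theorem s1543 (hV : NoTypeVStatement.{u}) (h3 : TypeThreeStatement.{u}) (hC : ChiefStatement.{u})
    (hG : IsMinSimpleOddOrder G) (h : PairData S T W₁ W₂ U V) :
    (IsOfTypeII S ∨ IsOfTypeIII S) ∧ (Nat.card W₁ < Nat.card W₂ → IsOfTypeII S) ∧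
      IsElementaryAbelian (Nat.card W₂) (fittingHallOf S) ∧
      Nat.card (fittingHallOf S) = Nat.card W₂ ^ Nat.card W₁ ∧
      IsTISubset (typeA0 S) ∧ normalizer (typeA0 S) = S := by
  obtain ⟨hel, hcard⟩ := fcore hV h3 hC hG S T W₁ W₂ U V h
  refine ⟨?_, typeII_of_lt hV h3 hG h, hel, hcard, typeA0_ti hG h.hS h.hSP⟩
  rcases types hV hG h with h' | h'
  · exact Or.inl h'
  · exact Or.inr (h'.resolve_right (h3 hG S W₁ U W₂ h.hS h.hSP h').1)

/-- The conclusion of S1544 about the field. -/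
theorem field_data {H₀ C : Subgroup G} {p : ℕ} (hp : p.Prime) (hW₂ : Nat.card W₂ = p)
    (hW₂H : W₂ ≤ fittingHallOf S) (hH₀ : H₀ = ⊥) (hC : C = ⊥)
    (d : GaloisData S W₁ U W₂ H₀ C p) :
    ∃ (F : Type) (_ : Field F) (_ : Fintype F) (f : G → F) (ψ : G → F),
      Fintype.card F = p ^ Nat.card W₁ ∧ Set.BijOn f (fittingHallOf S : Set G) Set.univ ∧
      (∀ x ∈ fittingHallOf S, ∀ x' ∈ fittingHallOf S, f (x * x') = f x + f x') ∧
      (∀ u ∈ U, ψ u ≠ 0 ∧ ∀ x ∈ fittingHallOf S, f (u * x * u⁻¹) = ψ u * f x) ∧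
      (∀ u ∈ U, ∀ u' ∈ U, ψ (u * u') = ψ u * ψ u') ∧ Set.InjOn ψ (U : Set G) ∧
      (∀ x ∈ fittingHallOf S, x ∈ W₂ ↔ f x ^ p = f x) := by
  classical
  subst hH₀ hC
  obtain ⟨F, iF, iFt, f, ψ, hF, hsurj, hker, hadd, hψ, hψmul, hψker, hfW⟩ := d.field
  have hinj : Set.InjOn f (fittingHallOf S : Set G) := fun a ha b hb e => by
    have h1 := hadd (a * b⁻¹) (mul_mem ha (inv_mem hb)) b hb
    rw [inv_mul_cancel_right, e, eq_comm, add_eq_right,
      hker _ (mul_mem ha (inv_mem hb)), mem_bot, mul_inv_eq_one] at h1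
    exact h1
  refine ⟨F, iF, iFt, f, ψ, hF, ⟨Set.mapsTo_univ _ _, hinj, fun y _ => hsurj y⟩, hadd, hψ, hψmul,
    fun a ha b hb e => ?_, fun x hx => ⟨hfW x, fun hxp => ?_⟩⟩
  · have h1 := hψmul (a * b⁻¹) (mul_mem ha (inv_mem hb)) b hb
    rw [inv_mul_cancel_right, e, eq_comm,
      mul_eq_right₀ (hψ b hb).1, hψker _ (mul_mem ha (inv_mem hb)), mem_bot, mul_inv_eq_one] at h1
    exact h1
  · have hroot : ({y : F | y ^ p = y}).ncard ≤ p := by
      have hne := FiniteField.X_pow_card_sub_X_ne_zero F hp.one_lt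
      have hsub : {y : F | y ^ p = y} ⊆
          ↑(Polynomial.X ^ p - Polynomial.X : Polynomial F).roots.toFinset := fun y hy => by
        rw [Finset.mem_coe, Multiset.mem_toFinset, Polynomial.mem_roots hne]
        simp [Polynomial.IsRoot, sub_eq_zero.mpr (hy : y ^ p = y)]
      refine (Set.ncard_le_ncard hsub (Finset.finite_toSet _)).trans ?_
      rw [Set.ncard_coe_finset]
      exact (Multiset.toFinset_card_le _).trans ((Polynomial.card_roots' _).trans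
        (FiniteField.X_pow_card_sub_X_natDegree_eq F hp.one_lt).le)
    have him : f '' (W₂ : Set G) = {y : F | y ^ p = y} := by
      refine Set.eq_of_subset_of_ncard_le (fun y ⟨w, hw, e⟩ => e ▸ hfW w hw) ?_ (Set.toFinite _)
      rw [(hinj.mono hW₂H).ncard_image,
        show (W₂ : Set G).ncard = p from (Nat.card_coe_set_eq _).symm.trans hW₂]
      exact hroot
    obtain ⟨w, hw, e⟩ : f x ∈ f '' (W₂ : Set G) := him ▸ hxp
    rwa [← hinj (hW₂H hw) hx e]

/-- S1544. -/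
theorem final (hV : NoTypeVStatement.{u}) (h3 : TypeThreeStatement.{u}) (hC : ChiefStatement.{u})
    (hD : DichotomyStatement.{u}) (hcent : CentralizerStatement.{u})
    (hE : ExceptionalStatement.{u}) (hN : NormalizesStatement.{u}) :
    Final.FinalStatement.{u} := by
  intro G _ _ hG S T W₁ W₂ U V hS hT hSP hTP hST hII hS25 hT25 hlt
  have h : PairData S T W₁ W₂ U V := ⟨hS, hT, hSP, hTP, hST, hII, hS25, hT25⟩
  obtain ⟨hq, hp⟩ := primes hV hG S T W₁ W₂ U V h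
  obtain ⟨hel, hcard⟩ := fcore hV h3 hC hG S T W₁ W₂ U V h
  have hSII := typeII_of_lt hV h3 hG h hlt
  have hU1 := U_ne_bot_of_II hG hS hSP hSII
  obtain ⟨H₀, C, r, d⟩ := hC hG S W₁ U W₂ hS hSP hU1 hq
  obtain ⟨rfl, rfl⟩ := chief_bot hp hcard d
  have hCbot : C = ⊥ := by
    refine eq_bot_iff.mpr fun u hu => ?_
    rw [← hcent hG S T W₁ W₂ U V h]
    have hu' : u ∈ sectionCentralizer U (fittingHallOf S) ⊥ := d.cent ▸ hu
    refine mem_inf.mpr ⟨hu'.1, mem_centralizer_iff.mpr fun x hx => ?_⟩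
    have e := mem_bot.mp (hu'.2 x hx)
    rw [mul_inv_eq_one, mul_inv_eq_iff_eq_mul] at e
    exact e.symm
  subst hCbot
  have hexc : Nat.card U * (Nat.card W₂ - 1) = Nat.card W₂ ^ Nat.card W₁ - 1 :=
    hE hG S T W₁ W₂ U V h hlt
  have hpos : 0 < Nat.card W₂ - 1 := Nat.sub_pos_of_lt hp.one_lt
  have hdiv : (Nat.card W₂ ^ Nat.card W₁ - 1) / (Nat.card W₂ - 1) = Nat.card U := by
    rw [← hexc, Nat.mul_div_cancel _ hpos]
  have hodd : ∀ H : Subgroup G, Nat.card H ≠ 2 := fun H e => by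
    have h2 := odd_card hG H
    rw [e] at h2
    exact absurd h2 (by decide)
  obtain ⟨-, hmod, hcop⟩ := S1546.result (Nat.card W₂) (Nat.card W₁) hp hq (hodd W₂) (hodd W₁)
  have hne1 : Nat.card W₂ % Nat.card W₁ ≠ 1 := fun e => hq.ne_one
    (Nat.eq_one_of_dvd_coprimes (coprime_U_W₁ hSP) (hdiv ▸ hmod e) dvd_rfl)
  have hcopN := (hcop hne1).1
  rcases hD hG S W₁ U W₂ ⊥ ⊥ (Nat.card W₂) hS hSP hq d with g | ⟨H₁, C₁, a, s⟩
  swap
  · have h1 : Nat.card U ∣ a ^ (Nat.card W₁ - 1) := by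
      simpa [relIndex_bot_left] using s.index_dvd
    have h2 : Nat.card U ∣ (Nat.card W₂ - 1) ^ (Nat.card W₁ - 1) :=
      h1.trans (pow_dvd_pow_of_dvd s.dvd _)
    exact absurd (card_eq_one.mp (((hdiv ▸ hcopN : (Nat.card U).Coprime (Nat.card W₂ - 1))
      |>.pow_right _).eq_one_of_dvd h2)) hU1
  have hUcyc : IsCyclic U := by
    obtain ⟨u, hu, hgen⟩ := g.cyclic
    refine ⟨⟨⟨u, hu⟩, fun ⟨v, hv⟩ => ?_⟩⟩
    obtain ⟨n, hn⟩ := hgen v hv
    refine ⟨-n, Subtype.ext ?_⟩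
    show ((⟨u, hu⟩ : U) ^ (-n) : U).1 = v
    rw [SubgroupClass.coe_zpow, zpow_neg, inv_eq_iff_mul_eq_one]
    rw [mem_bot, mul_eq_one_iff_eq_inv] at hn
    show u ^ n * v = 1
    rw [hn, mul_inv_cancel]
  have hfree : ∀ u ∈ U, u ≠ 1 → ∀ x ∈ fittingHallOf S, u * x = x * u → x = 1 :=
    fun u hu hu1 x hx e => mem_bot.mp (g.free u hu (fun h' => hu1 (mem_bot.mp h')) x hx
      (mem_bot.mpr (by rw [mul_inv_eq_one, mul_inv_eq_iff_eq_mul, e])))
  obtain ⟨y, hy, hyN⟩ := hN hG S T W₁ W₂ U V h hlt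
  obtain ⟨helT, -⟩ := fcore hV h3 hC hG T S W₂ W₁ V U (symm h)
  exact ⟨hq, hp, hel, hcard, hUcyc, hexc, hfree, hcopN, (frobHyp hSP).hUH,
    (coprime_H hTP).coprime_dvd_right (dvd_mul_left _ _), helT, (frobHyp hTP).hEH, y, hy, hyN,
    field_data hp rfl (W₂_le_H hSP) rfl rfl g⟩

/-- The odd order theorem (S0205). -/
theorem odd_order (hV : NoTypeVStatement.{u}) (h3 : TypeThreeStatement.{u}) (hC : ChiefStatement.{u})
    (hD : DichotomyStatement.{u}) (hcent : CentralizerStatement.{u})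
    (hE : ExceptionalStatement.{u}) (hN : NormalizesStatement.{u})
    {G : Type u} [Group G] [Finite G] (hodd : Odd (Nat.card G)) : Group.IsSolvable G :=
  Final.isSolvable_of_final (final hV h3 hC hD hcent hE hN) _ rfl hodd

end Cfsg.Agent.OddChar.TypeP.Pair
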