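import Cfsg.Agent.OddChar.TypeP.Pair.Basic

/-!
# `|W₁|` and `|W₂|` are primes
-/

set_option autoImplicit false

namespace Cfsg.Agent.OddChar.TypeP.Pair

open Cfsg Subgroup

universe u

variable {G : Type u} [Group G] [Finite G] {S T W₁ W₂ U V : Subgroup G}

/-- Without type V the first member is of type II, III or IV. -/
theorem types (hV : NoTypeVStatement.{u}) (hG : IsMinSimpleOddOrder G)
    (h : PairData S T W₁ W₂ U V) : IsOfTypeII S ∨ IsOfTypeIII S ∨ IsOfTypeIV S := by
  rcases h.typeS with h' | h' | h' | h'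
  exacts [Or.inl h', Or.inr (Or.inl h'), Or.inr (Or.inr h'), absurd h' (hV hG S h.hS)]

theorem primes (hV : NoTypeVStatement.{u}) : PrimesStatement.{u} := by
  intro G _ _ hG S T W₁ W₂ U V h
  exact ⟨W₁_prime hG h.hS h.hSP (types hV hG h),
    W₁_prime hG h.hT h.hTP (types hV hG (symm h))⟩

end Cfsg.Agent.OddChar.TypeP.Pair
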